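import Cfsg.Agent.H891.EPF.YData

/-!
# S5745, `²E₆(2)` and `Fi₂₂`: the letters for the Levi transvections (generated; helper891)
-/

set_option autoImplicit false

namespace Cfsg.Agent.H891.TE6.Eng

open Cfsg Cfsg.Lie

theorem mkL_of {D : ChevalleyDatum} {r : ℕ} {l : Ltr} (h : mkL D r 0 = l) (t : ℕ) :
    mkL D r t = ⟨l.r, t, 2 * t % 3, l.l1, l.l2⟩ := by
  rw [← h]
  rfl

def k39 : Ltr := ⟨39, 0, 0,
  [(2, 90), (4, 90), (8, 90), (76, 6), (14, 16), (24, 28), (26, 30), (38, 40), (46, 50), (48, 52), (60, 62), (68,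
  70), (72, 78), (74, 80), (86, 92), (88, 94), (96, 98), (104, 106), (114, 118), (116, 120), (126, 128), (136, 140),
  (138, 142), (150, 152)],
  [(76, 90)]⟩
theorem k39_eq : mkL chevE6 39 0 = k39 := by decide +kernel

def k44 : Ltr := ⟨44, 0, 0,
  [(0, 100), (2, 100), (4, 100), (8, 100), (10, 100), (66, 4), (66, 6), (66, 8), (14, 24), (16, 28), (20, 32), (36,
  42), (44, 56), (48, 60), (52, 62), (64, 82), (68, 86), (70, 92), (74, 96), (80, 98), (84, 102), (104, 114), (106,
  118), (110, 122), (124, 130), (134, 146), (138, 150), (142, 152)],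
  [(66, 100)]⟩
theorem k44_eq : mkL chevE6 44 0 = k44 := by decide +kernel

def k60 : Ltr := ⟨60, 0, 0,
  [(0, 132), (2, 132), (10, 132), (34, 0), (34, 4), (34, 6), (34, 8), (34, 10), (14, 48), (16, 52), (18, 54), (22,
  58), (24, 60), (28, 62), (36, 84), (38, 88), (40, 94), (42, 102), (64, 124), (72, 126), (78, 128), (82, 130),
  (104, 138), (106, 142), (108, 144), (112, 148), (114, 150), (118, 152)],
  [(34, 132)]⟩
theorem k60_eq : mkL chevE6 60 0 = k60 := by decide +kernel

def k32 : Ltr := ⟨32, 0, 0,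
  [(2, 76), (4, 76), (8, 76), (90, 6), (16, 14), (28, 24), (30, 26), (40, 38), (50, 46), (52, 48), (62, 60), (70,
  68), (78, 72), (80, 74), (92, 86), (94, 88), (98, 96), (106, 104), (118, 114), (120, 116), (128, 126), (140, 136),
  (142, 138), (152, 150)],
  [(90, 76)]⟩
theorem k32_eq : mkL chevE6 32 0 = k32 := by decide +kernel

def k27 : Ltr := ⟨27, 0, 0,
  [(0, 66), (2, 66), (4, 66), (8, 66), (10, 66), (100, 4), (100, 6), (100, 8), (24, 14), (28, 16), (32, 20), (42,
  36), (56, 44), (60, 48), (62, 52), (82, 64), (86, 68), (92, 70), (96, 74), (98, 80), (102, 84), (114, 104), (118,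
  106), (122, 110), (130, 124), (146, 134), (150, 138), (152, 142)],
  [(100, 66)]⟩
theorem k27_eq : mkL chevE6 27 0 = k27 := by decide +kernel

def k11 : Ltr := ⟨11, 0, 0,
  [(0, 34), (2, 34), (10, 34), (132, 0), (132, 4), (132, 6), (132, 8), (132, 10), (48, 14), (52, 16), (54, 18), (58,
  22), (60, 24), (62, 28), (84, 36), (88, 38), (94, 40), (102, 42), (124, 64), (126, 72), (128, 78), (130, 82),
  (138, 104), (142, 106), (144, 108), (148, 112), (150, 114), (152, 118)],
  [(132, 34)]⟩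
theorem k11_eq : mkL chevE6 11 0 = k11 := by decide +kernel

def k40 : Ltr := ⟨40, 0, 0,
  [(2, 92), (4, 92), (6, 92), (8, 92), (10, 92), (74, 6), (74, 8), (14, 18), (22, 28), (26, 32), (36, 40), (44, 50),
  (48, 54), (58, 62), (66, 70), (72, 82), (76, 86), (80, 90), (84, 94), (96, 100), (104, 108), (112, 118), (116,
  122), (126, 130), (134, 140), (138, 144), (148, 152)],
  [(74, 92)]⟩
theorem k40_eq : mkL chevE6 40 0 = k40 := by decide +kernel

def k43 : Ltr := ⟨43, 0, 0,
  [(0, 98), (2, 98), (4, 98), (6, 98), (8, 98), (68, 4), (68, 6), (14, 22), (18, 28), (20, 30), (38, 42), (46, 56),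
  (48, 58), (54, 62), (64, 78), (66, 80), (70, 90), (76, 96), (86, 100), (88, 102), (104, 112), (108, 118), (110,
  120), (124, 128), (136, 146), (138, 148), (144, 152)],
  [(68, 98)]⟩
theorem k43_eq : mkL chevE6 43 0 = k43 := by decide +kernel

def k41 : Ltr := ⟨41, 0, 0,
  [(2, 94), (4, 94), (6, 94), (10, 94), (72, 6), (72, 8), (72, 10), (14, 20), (22, 30), (24, 32), (34, 40), (44,
  52), (46, 54), (56, 62), (64, 70), (74, 84), (76, 88), (78, 90), (82, 92), (96, 102), (104, 110), (112, 120),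
  (114, 122), (126, 132), (134, 142), (136, 144), (146, 152)],
  [(72, 94)]⟩
theorem k41_eq : mkL chevE6 41 0 = k41 := by decide +kernel

def k58 : Ltr := ⟨58, 0, 0,
  [(0, 128), (2, 128), (6, 128), (8, 128), (38, 0), (38, 4), (38, 6), (14, 44), (18, 50), (20, 52), (24, 56), (26,
  58), (32, 62), (34, 78), (36, 80), (40, 90), (42, 98), (68, 124), (76, 126), (86, 130), (88, 132), (104, 134),
  (108, 140), (110, 142), (114, 146), (116, 148), (122, 152)],
  [(38, 128)]⟩
theorem k58_eq : mkL chevE6 58 0 = k58 := by decide +kernel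

def k45 : Ltr := ⟨45, 0, 0,
  [(0, 102), (2, 102), (4, 102), (10, 102), (64, 4), (64, 6), (64, 8), (64, 10), (14, 26), (16, 30), (18, 32), (34,
  42), (44, 58), (46, 60), (50, 62), (66, 84), (68, 88), (70, 94), (72, 96), (78, 98), (82, 100), (104, 116), (106,
  120), (108, 122), (124, 132), (134, 148), (136, 150), (140, 152)],
  [(64, 102)]⟩
theorem k45_eq : mkL chevE6 45 0 = k45 := by decide +kernel

def k59 : Ltr := ⟨59, 0, 0,
  [(0, 130), (2, 130), (8, 130), (10, 130), (36, 0), (36, 4), (36, 6), (36, 8), (14, 46), (16, 50), (20, 54), (22,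
  56), (26, 60), (30, 62), (34, 82), (38, 86), (40, 92), (42, 100), (66, 124), (74, 126), (80, 128), (84, 132),
  (104, 136), (106, 140), (110, 144), (112, 146), (116, 150), (120, 152)],
  [(36, 130)]⟩
theorem k59_eq : mkL chevE6 59 0 = k59 := by decide +kernel

def k40w1 : Ltr := ⟨40, 1, 2,
  [(2, 92), (4, 92), (6, 92), (8, 92), (10, 92), (74, 6), (74, 8), (14, 18), (22, 28), (26, 32), (36, 40), (44, 50),
  (48, 54), (58, 62), (66, 70), (72, 82), (76, 86), (80, 90), (84, 94), (96, 100), (104, 108), (112, 118), (116,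
  122), (126, 130), (134, 140), (138, 144), (148, 152)],
  [(74, 92)]⟩
theorem k40w1_eq : mkL chevE6 40 1 = k40w1 :=
  mkL_of k40_eq 1

def k40w2 : Ltr := ⟨40, 2, 1,
  [(2, 92), (4, 92), (6, 92), (8, 92), (10, 92), (74, 6), (74, 8), (14, 18), (22, 28), (26, 32), (36, 40), (44, 50),
  (48, 54), (58, 62), (66, 70), (72, 82), (76, 86), (80, 90), (84, 94), (96, 100), (104, 108), (112, 118), (116,
  122), (126, 130), (134, 140), (138, 144), (148, 152)],
  [(74, 92)]⟩
theorem k40w2_eq : mkL chevE6 40 2 = k40w2 :=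
  mkL_of k40_eq 2

def k43w1 : Ltr := ⟨43, 1, 2,
  [(0, 98), (2, 98), (4, 98), (6, 98), (8, 98), (68, 4), (68, 6), (14, 22), (18, 28), (20, 30), (38, 42), (46, 56),
  (48, 58), (54, 62), (64, 78), (66, 80), (70, 90), (76, 96), (86, 100), (88, 102), (104, 112), (108, 118), (110,
  120), (124, 128), (136, 146), (138, 148), (144, 152)],
  [(68, 98)]⟩
theorem k43w1_eq : mkL chevE6 43 1 = k43w1 :=
  mkL_of k43_eq 1

def k43w2 : Ltr := ⟨43, 2, 1,
  [(0, 98), (2, 98), (4, 98), (6, 98), (8, 98), (68, 4), (68, 6), (14, 22), (18, 28), (20, 30), (38, 42), (46, 56),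
  (48, 58), (54, 62), (64, 78), (66, 80), (70, 90), (76, 96), (86, 100), (88, 102), (104, 112), (108, 118), (110,
  120), (124, 128), (136, 146), (138, 148), (144, 152)],
  [(68, 98)]⟩
theorem k43w2_eq : mkL chevE6 43 2 = k43w2 :=
  mkL_of k43_eq 2

def k41w1 : Ltr := ⟨41, 1, 2,
  [(2, 94), (4, 94), (6, 94), (10, 94), (72, 6), (72, 8), (72, 10), (14, 20), (22, 30), (24, 32), (34, 40), (44,
  52), (46, 54), (56, 62), (64, 70), (74, 84), (76, 88), (78, 90), (82, 92), (96, 102), (104, 110), (112, 120),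
  (114, 122), (126, 132), (134, 142), (136, 144), (146, 152)],
  [(72, 94)]⟩
theorem k41w1_eq : mkL chevE6 41 1 = k41w1 :=
  mkL_of k41_eq 1

def k41w2 : Ltr := ⟨41, 2, 1,
  [(2, 94), (4, 94), (6, 94), (10, 94), (72, 6), (72, 8), (72, 10), (14, 20), (22, 30), (24, 32), (34, 40), (44,
  52), (46, 54), (56, 62), (64, 70), (74, 84), (76, 88), (78, 90), (82, 92), (96, 102), (104, 110), (112, 120),
  (114, 122), (126, 132), (134, 142), (136, 144), (146, 152)],
  [(72, 94)]⟩
theorem k41w2_eq : mkL chevE6 41 2 = k41w2 :=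
  mkL_of k41_eq 2

def k58w1 : Ltr := ⟨58, 1, 2,
  [(0, 128), (2, 128), (6, 128), (8, 128), (38, 0), (38, 4), (38, 6), (14, 44), (18, 50), (20, 52), (24, 56), (26,
  58), (32, 62), (34, 78), (36, 80), (40, 90), (42, 98), (68, 124), (76, 126), (86, 130), (88, 132), (104, 134),
  (108, 140), (110, 142), (114, 146), (116, 148), (122, 152)],
  [(38, 128)]⟩
theorem k58w1_eq : mkL chevE6 58 1 = k58w1 :=
  mkL_of k58_eq 1

def k58w2 : Ltr := ⟨58, 2, 1,
  [(0, 128), (2, 128), (6, 128), (8, 128), (38, 0), (38, 4), (38, 6), (14, 44), (18, 50), (20, 52), (24, 56), (26,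
  58), (32, 62), (34, 78), (36, 80), (40, 90), (42, 98), (68, 124), (76, 126), (86, 130), (88, 132), (104, 134),
  (108, 140), (110, 142), (114, 146), (116, 148), (122, 152)],
  [(38, 128)]⟩
theorem k58w2_eq : mkL chevE6 58 2 = k58w2 :=
  mkL_of k58_eq 2

def k45w1 : Ltr := ⟨45, 1, 2,
  [(0, 102), (2, 102), (4, 102), (10, 102), (64, 4), (64, 6), (64, 8), (64, 10), (14, 26), (16, 30), (18, 32), (34,
  42), (44, 58), (46, 60), (50, 62), (66, 84), (68, 88), (70, 94), (72, 96), (78, 98), (82, 100), (104, 116), (106,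
  120), (108, 122), (124, 132), (134, 148), (136, 150), (140, 152)],
  [(64, 102)]⟩
theorem k45w1_eq : mkL chevE6 45 1 = k45w1 :=
  mkL_of k45_eq 1

def k45w2 : Ltr := ⟨45, 2, 1,
  [(0, 102), (2, 102), (4, 102), (10, 102), (64, 4), (64, 6), (64, 8), (64, 10), (14, 26), (16, 30), (18, 32), (34,
  42), (44, 58), (46, 60), (50, 62), (66, 84), (68, 88), (70, 94), (72, 96), (78, 98), (82, 100), (104, 116), (106,
  120), (108, 122), (124, 132), (134, 148), (136, 150), (140, 152)],
  [(64, 102)]⟩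
theorem k45w2_eq : mkL chevE6 45 2 = k45w2 :=
  mkL_of k45_eq 2

def k59w1 : Ltr := ⟨59, 1, 2,
  [(0, 130), (2, 130), (8, 130), (10, 130), (36, 0), (36, 4), (36, 6), (36, 8), (14, 46), (16, 50), (20, 54), (22,
  56), (26, 60), (30, 62), (34, 82), (38, 86), (40, 92), (42, 100), (66, 124), (74, 126), (80, 128), (84, 132),
  (104, 136), (106, 140), (110, 144), (112, 146), (116, 150), (120, 152)],
  [(36, 130)]⟩
theorem k59w1_eq : mkL chevE6 59 1 = k59w1 :=
  mkL_of k59_eq 1

def k59w2 : Ltr := ⟨59, 2, 1,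
  [(0, 130), (2, 130), (8, 130), (10, 130), (36, 0), (36, 4), (36, 6), (36, 8), (14, 46), (16, 50), (20, 54), (22,
  56), (26, 60), (30, 62), (34, 82), (38, 86), (40, 92), (42, 100), (66, 124), (74, 126), (80, 128), (84, 132),
  (104, 136), (106, 140), (110, 144), (112, 146), (116, 150), (120, 152)],
  [(36, 130)]⟩
theorem k59w2_eq : mkL chevE6 59 2 = k59w2 :=
  mkL_of k59_eq 2

/-- the elements of the root group of `40`, `43` -/
def s40 : List (List (ℕ × ℕ) × List Ltr) :=
  [([], []), ([(40, 0), (43, 0)], [k40, k43]), ([(40, 1), (43, 2)], [k40w1, k43w2]),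
    ([(40, 2), (43, 1)], [k40w2, k43w1])]

/-- the elements of the root group of `41`, `58` -/
def s41 : List (List (ℕ × ℕ) × List Ltr) :=
  [([], []), ([(41, 0), (58, 0)], [k41, k58]), ([(41, 1), (58, 2)], [k41w1, k58w2]),
    ([(41, 2), (58, 1)], [k41w2, k58w1])]

/-- the elements of the root group of `45`, `59` -/
def s45 : List (List (ℕ × ℕ) × List Ltr) :=
  [([], []), ([(45, 0), (59, 0)], [k45, k59]), ([(45, 1), (59, 2)], [k45w1, k59w2]),
    ([(45, 2), (59, 1)], [k45w2, k59w1])]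

def s39 : List (List (ℕ × ℕ) × List Ltr) := [([], []), ([(39, 0)], [k39])]

def s44 : List (List (ℕ × ℕ) × List Ltr) := [([], []), ([(44, 0)], [k44])]

def s60 : List (List (ℕ × ℕ) × List Ltr) := [([], []), ([(60, 0)], [k60])]

def s32 : List (List (ℕ × ℕ) × List Ltr) := [([], []), ([(32, 0)], [k32])]

def s27 : List (List (ℕ × ℕ) × List Ltr) := [([], []), ([(27, 0)], [k27])]

def s11 : List (List (ℕ × ℕ) × List Ltr) := [([], []), ([(11, 0)], [k11])]

end Cfsg.Agent.H891.TE6.Eng
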