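import Cfsg.Agent.H891.TE6.Data
import Cfsg.Agent.H891.TE6.Elt
import Cfsg.Agent.KFacts.TwESix.Dat
import Cfsg.Agent.TwoESix.FlagH

/-!
# S5745, `²E₆(2)` and `Fi₂₂`: elements of order 5 and 7 commuting with `x_46(1) x_70(1)` and `x_71(1)` (helper891)

`exists_y` : `y5`, `y7` in the subgroup `L₃(4)` generated by the root groups of the short simple roots.
-/

set_option autoImplicit false
set_option linter.unusedSectionVars false

namespace Cfsg.Agent.H891.TE6.Eng

open Cfsg Cfsg.Lie

def l15 : Ltr := ⟨15, 0, 0,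
  [(4, 42), (124, 0), (44, 22), (46, 24), (48, 26), (50, 28), (52, 30), (54, 32), (64, 34), (66, 36), (68, 38), (70,
  40), (126, 96), (128, 98), (130, 100), (132, 102), (134, 112), (136, 114), (138, 116), (140, 118), (142, 120),
  (144, 122)],
  [(124, 42)]⟩
theorem l15_eq : mkL chevE6 15 0 = l15 := by decide +kernel

def l35 : Ltr := ⟨35, 0, 0,
  [(8, 82), (84, 10), (20, 18), (26, 24), (30, 28), (36, 34), (48, 46), (52, 50), (58, 56), (66, 64), (74, 72), (80,
  78), (88, 86), (94, 92), (102, 100), (110, 108), (116, 114), (120, 118), (132, 130), (138, 136), (142, 140), (148,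
  146)],
  [(84, 82)]⟩
theorem l35_eq : mkL chevE6 35 0 = l35 := by decide +kernel

def l15w1 : Ltr := ⟨15, 1, 2,
  [(4, 42), (124, 0), (44, 22), (46, 24), (48, 26), (50, 28), (52, 30), (54, 32), (64, 34), (66, 36), (68, 38), (70,
  40), (126, 96), (128, 98), (130, 100), (132, 102), (134, 112), (136, 114), (138, 116), (140, 118), (142, 120),
  (144, 122)],
  [(124, 42)]⟩
theorem l15w1_eq : mkL chevE6 15 1 = l15w1 := by decide +kernel

def l35w2 : Ltr := ⟨35, 2, 1,
  [(8, 82), (84, 10), (20, 18), (26, 24), (30, 28), (36, 34), (48, 46), (52, 50), (58, 56), (66, 64), (74, 72), (80,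
  78), (88, 86), (94, 92), (102, 100), (110, 108), (116, 114), (120, 118), (132, 130), (138, 136), (142, 140), (148,
  146)],
  [(84, 82)]⟩
theorem l35w2_eq : mkL chevE6 35 2 = l35w2 := by decide +kernel

def l29 : Ltr := ⟨29, 0, 0,
  [(0, 70), (6, 70), (96, 4), (22, 16), (24, 18), (26, 20), (42, 40), (56, 50), (58, 52), (60, 54), (72, 64), (74,
  66), (76, 68), (98, 90), (100, 92), (102, 94), (112, 106), (114, 108), (116, 110), (126, 124), (146, 140), (148,
  142), (150, 144)],
  [(96, 70)]⟩
theorem l29_eq : mkL chevE6 29 0 = l29 := by decide +kernel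

def l34 : Ltr := ⟨34, 0, 0,
  [(6, 80), (10, 80), (86, 8), (18, 16), (24, 22), (32, 30), (38, 36), (46, 44), (54, 52), (60, 58), (68, 66), (76,
  74), (82, 78), (88, 84), (92, 90), (100, 98), (108, 106), (114, 112), (122, 120), (130, 128), (136, 134), (144,
  142), (150, 148)],
  [(86, 80)]⟩
theorem l34_eq : mkL chevE6 34 0 = l34 := by decide +kernel

def l70 : Ltr := ⟨70, 0, 0,
  [(2, 152), (6, 152), (14, 0), (14, 2), (14, 6), (14, 10), (12, 62), (16, 90), (18, 92), (20, 94), (22, 98), (24,
  100), (26, 102), (34, 118), (36, 120), (38, 122), (44, 128), (46, 130), (48, 132), (64, 140), (66, 142), (68,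
  144), (72, 146), (74, 148), (76, 150), (104, 154)],
  [(14, 152)]⟩
theorem l70_eq : mkL chevE6 70 0 = l70 := by decide +kernel


/-- `y5`, `y7`, `u` -/
def wY5 : List (ℕ × ℕ) := [(56, 0), (36, 0)] ++ [(15, 1), (35, 2)]
def wY7 : List (ℕ × ℕ) := [(42, 0), (37, 0)] ++ ([(56, 0), (36, 0)] ++ ([(15, 0), (35, 0)] ++ [(29, 0), (34, 0)]))
def wU : List (ℕ × ℕ) := [(46, 0)] ++ [(70, 0)]
def lY5 : List Ltr := [l56, l36, l15w1, l35w2]
def lY7 : List Ltr := [l42, l37, l56, l36, l15, l35, l29, l34]
def lU : List Ltr := [l46, l70]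

theorem acts_Y5 : Acts chevE6 wY5 (run M78 lY5) :=
  Acts.of_ltrs msk78 (by decide +kernel)
    (by simp only [wY5, lY5, ltrs, List.cons_append, List.nil_append, List.map_cons, List.map_nil, l56_eq, l36_eq,
      l15w1_eq, l35w2_eq])

theorem acts_Y7 : Acts chevE6 wY7 (run M78 lY7) :=
  Acts.of_ltrs msk78 (by decide +kernel)
    (by simp only [wY7, lY7, ltrs, List.cons_append, List.nil_append, List.map_cons, List.map_nil, l56_eq, l36_eq,
      l15_eq, l35_eq, l42_eq, l37_eq, l29_eq, l34_eq])

theorem acts_U : Acts chevE6 wU (run M78 lU) :=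
  Acts.of_ltrs msk78 (by decide +kernel)
    (by simp only [wU, lU, ltrs, List.cons_append, List.nil_append, List.map_cons, List.map_nil, l46_eq, l70_eq])

theorem acts_R : Acts chevE6 [(71, 0)] (run M78 [l71]) :=
  Acts.of_ltrs msk78 (by decide +kernel) (by simp only [ltrs, List.map_cons, List.map_nil, l71_eq])

theorem y5_pow : chkEq chevE6 (itf (run M78 lY5) 5) (fun s => s) = true := by decide +kernel
theorem y7_pow : chkEq chevE6 (itf (run M78 lY7) 7) (fun s => s) = true := by decide +kernel
theorem y5_u : chkEq chevE6 (fun s => force (run M78 lY5 s) (run M78 lU)) (fun s => force (run M78 lU s) (run M78 lY5)) =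
    true := by decide +kernel
theorem y7_u : chkEq chevE6 (fun s => force (run M78 lY7 s) (run M78 lU)) (fun s => force (run M78 lU s) (run M78 lY7)) =
    true := by decide +kernel
theorem y5_r : chkEq chevE6 (fun s => force (run M78 lY5 s) (run M78 [l71]))
    (fun s => force (run M78 [l71] s) (run M78 lY5)) = true := by decide +kernel
theorem y7_r : chkEq chevE6 (fun s => force (run M78 lY7 s) (run M78 [l71]))
    (fun s => force (run M78 [l71] s) (run M78 lY7)) = true := by decide +kernel

end Cfsg.Agent.H891.TE6.Eng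

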